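/- The scheme-theoretic union of two closed subschemes is their pushout along the intersection. -/
import Mathlib

set_option autoImplicit false
universe u
open CategoryTheory Limits AlgebraicGeometry TopologicalSpace

namespace Groth.Agent.ClosedUnion

theorem ker_appTop_morphismRestrict {X Y : Scheme.{u}} (f : X ⟶ Y) [QuasiCompact f] (W : Y.affineOpens) :
    RingHom.ker (f ∣_ W.1).appTop.hom = (f.ker.ideal W).comap W.1.topIso.hom.hom := by
  have aux : ∀ (W' : Y.Opens) (e : W' = W.1) (x : Γ(Y, W')),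
      (f.app W.1).hom ((Y.presheaf.map (eqToHom e.symm).op).hom x) = 0 ↔ (f.app W').hom x = 0 := by
    rintro _ rfl x
    rw [eqToHom_refl, op_id, CategoryTheory.Functor.map_id]
    rfl
  ext x
  rw [RingHom.mem_ker, Ideal.mem_comap, Scheme.Hom.ker_apply, RingHom.mem_ker, Scheme.Hom.appTop,
    morphismRestrict_app, Scheme.Opens.topIso_hom]
  refine Iff.trans ?_ (aux _ (Scheme.Opens.ι_image_top W.1) x).symm
  exact map_eq_zero_iff _ (ConcreteCategory.bijective_of_isIso (X.presheaf.map _)).injective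

/-- the affine case: a cartesian square of rings gives a pushout of schemes against affine targets -/
theorem existsUnique_desc {S0 K A B D V : Scheme.{u}} [IsAffine V]
    {iK : K ⟶ S0} {iA : A ⟶ S0} {iB : B ⟶ S0} {iD : D ⟶ S0}
    {a : A ⟶ K} {b : B ⟶ K} {c : D ⟶ A} {d : D ⟶ B}
    (ha : a ≫ iK = iA) (hb : b ≫ iK = iB) (hc : c ≫ iA = iD) (hd : d ≫ iB = iD) (hcd : c ≫ a = d ≫ b)
    (sK : Function.Surjective iK.appTop.hom) (sA : Function.Surjective iA.appTop.hom)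
    (sB : Function.Surjective iB.appTop.hom)
    (kK : RingHom.ker iK.appTop.hom = RingHom.ker iA.appTop.hom ⊓ RingHom.ker iB.appTop.hom)
    (kD : RingHom.ker iD.appTop.hom ≤ RingHom.ker iA.appTop.hom ⊔ RingHom.ker iB.appTop.hom) :
    (∀ (p : A ⟶ V) (q : B ⟶ V), c ≫ p = d ≫ q → ∃ r : K ⟶ V, a ≫ r = p ∧ b ≫ r = q) ∧
    ∀ r r' : K ⟶ V, a ≫ r = a ≫ r' → b ≫ r = b ≫ r' → r = r' := by
  have eA : ∀ x, a.appTop.hom (iK.appTop.hom x) = iA.appTop.hom x := fun x => by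
    rw [← ha, Scheme.Hom.comp_appTop]; rfl
  have eB : ∀ x, b.appTop.hom (iK.appTop.hom x) = iB.appTop.hom x := fun x => by
    rw [← hb, Scheme.Hom.comp_appTop]; rfl
  have eC : ∀ x, c.appTop.hom (iA.appTop.hom x) = iD.appTop.hom x := fun x => by
    rw [← hc, Scheme.Hom.comp_appTop]; rfl
  have eD : ∀ x, d.appTop.hom (iB.appTop.hom x) = iD.appTop.hom x := fun x => by
    rw [← hd, Scheme.Hom.comp_appTop]; rfl
  have inj : ∀ z z', a.appTop.hom z = a.appTop.hom z' → b.appTop.hom z = b.appTop.hom z' → z = z' := by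
    intro z z' h1 h2
    obtain ⟨x, rfl⟩ := sK z
    obtain ⟨x', rfl⟩ := sK z'
    rw [eA, eA] at h1
    rw [eB, eB] at h2
    have : x - x' ∈ RingHom.ker iK.appTop.hom := by
      rw [kK, Ideal.mem_inf, RingHom.mem_ker, RingHom.mem_ker, map_sub, map_sub, sub_eq_zero, sub_eq_zero]
      exact ⟨h1, h2⟩
    rwa [RingHom.mem_ker, map_sub, sub_eq_zero] at this
  have surj : ∀ u v, c.appTop.hom u = d.appTop.hom v → ∃ z, a.appTop.hom z = u ∧ b.appTop.hom z = v := by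
    intro u v h
    obtain ⟨x, rfl⟩ := sA u
    obtain ⟨y, rfl⟩ := sB v
    rw [eC, eD] at h
    have : x - y ∈ RingHom.ker iD.appTop.hom := by rw [RingHom.mem_ker, map_sub, sub_eq_zero]; exact h
    obtain ⟨s, hs, t, ht, hst⟩ := Submodule.mem_sup.1 (kD this)
    refine ⟨iK.appTop.hom (x - s), ?_, ?_⟩
    · rw [eA, map_sub, RingHom.mem_ker.1 hs, sub_zero]
    · rw [eB, show x - s = y + t from by linear_combination -hst, map_add, RingHom.mem_ker.1 ht, add_zero]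
  refine ⟨fun p q h => ?_, fun r r' h1 h2 => ext_of_isAffine ?_⟩
  · have hpq : ∀ t, c.appTop.hom (p.appTop.hom t) = d.appTop.hom (q.appTop.hom t) := fun t => by
      have := congrArg (fun g => (Scheme.Hom.appTop g).hom t) h
      simpa [Scheme.Hom.comp_appTop] using this
    choose ψ h1 h2 using fun t => surj _ _ (hpq t)
    let ψ' : Γ(V, ⊤) →+* Γ(K, ⊤) :=
      { toFun := ψ
        map_one' := inj _ _ (by rw [h1, map_one, map_one]) (by rw [h2, map_one, map_one])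
        map_zero' := inj _ _ (by rw [h1, map_zero, map_zero]) (by rw [h2, map_zero, map_zero])
        map_mul' := fun x y => inj _ _ (by rw [h1, map_mul, map_mul, h1, h1]) (by rw [h2, map_mul, map_mul, h2, h2])
        map_add' := fun x y => inj _ _ (by rw [h1, map_add, map_add, h1, h1]) (by rw [h2, map_add, map_add, h2, h2]) }
    refine ⟨K.toSpecΓ ≫ Spec.map (CommRingCat.ofHom ψ') ≫ V.isoSpec.inv, ?_⟩
    have key : (K.toSpecΓ ≫ Spec.map (CommRingCat.ofHom ψ') ≫ V.isoSpec.inv).appTop = CommRingCat.ofHom ψ' := by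
      have e0 : V.isoSpec.inv.appTop = (Scheme.ΓSpecIso Γ(V, ⊤)).inv := by
        rw [← cancel_mono (Scheme.ΓSpecIso Γ(V, ⊤)).hom, Iso.inv_hom_id, ← Scheme.toSpecΓ_appTop,
          ← Scheme.Hom.comp_appTop]
        rw [show V.toSpecΓ ≫ V.isoSpec.inv = 𝟙 V from V.isoSpec.hom_inv_id]
        rfl
      rw [Scheme.Hom.comp_appTop, Scheme.Hom.comp_appTop, e0, Category.assoc, Scheme.toSpecΓ_appTop,
        Scheme.ΓSpecIso_naturality]
      exact (Scheme.ΓSpecIso Γ(V, ⊤)).inv_hom_id_assoc _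
    constructor
    · refine ext_of_isAffine ?_
      rw [Scheme.Hom.comp_appTop, key]
      exact CommRingCat.hom_ext (RingHom.ext h1)
    · refine ext_of_isAffine ?_
      rw [Scheme.Hom.comp_appTop, key]
      exact CommRingCat.hom_ext (RingHom.ext h2)
  · refine CommRingCat.hom_ext (RingHom.ext fun t => inj _ _ ?_ ?_)
    · have := congrArg (fun g => (Scheme.Hom.appTop g).hom t) h1
      simpa [Scheme.Hom.comp_appTop] using this
    · have := congrArg (fun g => (Scheme.Hom.appTop g).hom t) h2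
      simpa [Scheme.Hom.comp_appTop] using this

variable {S : Scheme.{u}} (I J : S.IdealSheafData)


theorem mem_support_inf {x : S} (hx : x ∈ (I ⊓ J).support) :
    x ∈ (I.support : Set S) ∨ x ∈ (J.support : Set S) := by
  by_contra hne
  rw [not_or] at hne
  obtain ⟨U, hU, hxU, -⟩ := exists_isAffineOpen_mem_and_subset (U := (⊤ : S.Opens)) (x := x) trivial
  rw [SetLike.mem_coe, SetLike.mem_coe, Scheme.IdealSheafData.mem_support_iff_of_mem (U := ⟨U, hU⟩) hxU,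
    Scheme.IdealSheafData.mem_support_iff_of_mem (U := ⟨U, hU⟩) hxU] at hne
  rw [Scheme.IdealSheafData.mem_support_iff_of_mem (U := ⟨U, hU⟩) hxU] at hx
  simp only [Scheme.zeroLocus_def, Set.mem_iInter, not_forall, Set.mem_compl_iff, SetLike.mem_coe,
    not_not] at hne hx
  obtain ⟨⟨a, ha, hxa⟩, b, hb, hxb⟩ := hne
  refine hx (a * b) ?_ ?_
  · rw [Scheme.IdealSheafData.ideal_inf, Pi.inf_apply]
    exact ⟨Ideal.mul_mem_right b _ ha, Ideal.mul_mem_left _ a hb⟩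
  · rw [Scheme.basicOpen_mul]
    exact ⟨hxa, hxb⟩

theorem exists_preimage (k : (I ⊓ J).subscheme) : (∃ x, Scheme.IdealSheafData.inclusion (inf_le_left : I ⊓ J ≤ I) x = k) ∨ ∃ x, Scheme.IdealSheafData.inclusion (inf_le_right : I ⊓ J ≤ J) x = k := by
  have hk : (I ⊓ J).subschemeι k ∈ (I ⊓ J).support := by rw [← SetLike.mem_coe, ← Scheme.IdealSheafData.range_subschemeι]; exact ⟨k, rfl⟩
  rcases mem_support_inf I J hk with h | h
  · rw [← Scheme.IdealSheafData.range_subschemeι] at h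
    obtain ⟨x, hx⟩ := h
    exact Or.inl ⟨x, ((I ⊓ J).subschemeι).isEmbedding.injective (by rw [← Scheme.Hom.comp_apply, Scheme.IdealSheafData.inclusion_subschemeι]; exact hx)⟩
  · rw [← Scheme.IdealSheafData.range_subschemeι] at h
    obtain ⟨x, hx⟩ := h
    exact Or.inr ⟨x, ((I ⊓ J).subschemeι).isEmbedding.injective (by rw [← Scheme.Hom.comp_apply, Scheme.IdealSheafData.inclusion_subschemeι]; exact hx)⟩

theorem preimage_eq {H H' : S.IdealSheafData} (h : H ≤ H') (W : S.Opens) :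
    Scheme.IdealSheafData.inclusion h ⁻¹ᵁ (H.subschemeι ⁻¹ᵁ W) = H'.subschemeι ⁻¹ᵁ W := by
  rw [← Scheme.Hom.comp_preimage, Scheme.IdealSheafData.inclusion_subschemeι]

/-- restriction of an inclusion over an open of the base -/
noncomputable def incl {H H' : S.IdealSheafData} (h : H ≤ H') (W : S.Opens) :
    (H'.subschemeι ⁻¹ᵁ W).toScheme ⟶ (H.subschemeι ⁻¹ᵁ W).toScheme :=
  (Scheme.IdealSheafData.inclusion h).resLE _ _ (preimage_eq h W).ge

theorem incl_ι {H H' : S.IdealSheafData} (h : H ≤ H') (W : S.Opens) :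
    incl h W ≫ (H.subschemeι ⁻¹ᵁ W).ι = (H'.subschemeι ⁻¹ᵁ W).ι ≫ Scheme.IdealSheafData.inclusion h :=
  Scheme.Hom.resLE_comp_ι _ _

theorem incl_restrict {H H' : S.IdealSheafData} (h : H ≤ H') (W : S.Opens) :
    incl h W ≫ H.subschemeι ∣_ W = H'.subschemeι ∣_ W := by
  rw [← cancel_mono W.ι, Category.assoc, morphismRestrict_ι, morphismRestrict_ι, ← Category.assoc, incl_ι,
    Category.assoc, Scheme.IdealSheafData.inclusion_subschemeι]

theorem incl_comp {H H' H'' : S.IdealSheafData} (h : H ≤ H') (h' : H' ≤ H'') (W : S.Opens) :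
    incl h' W ≫ incl h W = incl (h.trans h') W := by
  rw [← cancel_mono (H.subschemeι ⁻¹ᵁ W).ι, Category.assoc, incl_ι, ← Category.assoc, incl_ι, incl_ι,
    Category.assoc, Scheme.IdealSheafData.inclusion_comp]

theorem affine_desc (W : S.affineOpens) (V : Scheme.{u}) [IsAffine V] :
    (∀ (p : (I.subschemeι ⁻¹ᵁ W.1).toScheme ⟶ V) (q : (J.subschemeι ⁻¹ᵁ W.1).toScheme ⟶ V),
      incl (le_sup_left : I ≤ I ⊔ J) W.1 ≫ p = incl (le_sup_right : J ≤ I ⊔ J) W.1 ≫ q →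
      ∃ r : ((I ⊓ J).subschemeι ⁻¹ᵁ W.1).toScheme ⟶ V,
        incl (inf_le_left : I ⊓ J ≤ I) W.1 ≫ r = p ∧ incl (inf_le_right : I ⊓ J ≤ J) W.1 ≫ r = q) ∧
    ∀ r r' : ((I ⊓ J).subschemeι ⁻¹ᵁ W.1).toScheme ⟶ V,
      incl (inf_le_left : I ⊓ J ≤ I) W.1 ≫ r = incl (inf_le_left : I ⊓ J ≤ I) W.1 ≫ r' →
      incl (inf_le_right : I ⊓ J ≤ J) W.1 ≫ r = incl (inf_le_right : I ⊓ J ≤ J) W.1 ≫ r' → r = r' := by
  haveI : IsAffine (W.1 : Scheme) := W.2
  have hk : ∀ H : S.IdealSheafData, RingHom.ker (H.subschemeι ∣_ W.1).appTop.hom =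
      (H.ideal W).comap W.1.topIso.hom.hom := fun H => by
    rw [ker_appTop_morphismRestrict, Scheme.IdealSheafData.ker_subschemeι]
  have hs : ∀ H : S.IdealSheafData, Function.Surjective (H.subschemeι ∣_ W.1).appTop.hom := fun H => by
    haveI : IsClosedImmersion (H.subschemeι ∣_ W.1) := MorphismProperty.of_isPullback (P := @IsClosedImmersion)
      (isPullback_morphismRestrict H.subschemeι W.1).flip inferInstance
    exact (H.subschemeι ∣_ W.1).app_surjective ⊤ (isAffineOpen_top _)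
  refine existsUnique_desc (incl_restrict _ _) (incl_restrict _ _) (incl_restrict _ _) (incl_restrict _ _)
    (by rw [incl_comp, incl_comp]) (hs _) (hs _) (hs _) ?_ ?_
  · rw [hk, hk, hk, Scheme.IdealSheafData.ideal_inf, Pi.inf_apply, Ideal.comap_inf]
  · rw [hk, hk, hk, Scheme.IdealSheafData.ideal_sup, Pi.sup_apply]
    intro x hx
    obtain ⟨s, hs, t, ht, hst⟩ := Submodule.mem_sup.1 (Ideal.mem_comap.1 hx)
    have e := fun y => ConcreteCategory.congr_hom W.1.topIso.inv_hom_id y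
    have e' := fun y => ConcreteCategory.congr_hom W.1.topIso.hom_inv_id y
    refine Submodule.mem_sup.2 ⟨W.1.topIso.inv.hom s, ?_, W.1.topIso.inv.hom t, ?_, ?_⟩
    · exact Ideal.mem_comap.2 ((e s).symm ▸ hs)
    · exact Ideal.mem_comap.2 ((e t).symm ▸ ht)
    · rw [← map_add, hst]; exact e' x

variable {T : Scheme.{u}}

theorem exists_good_nhd {O : (I ⊓ J).subscheme.Opens} {k : (I ⊓ J).subscheme} (hk : k ∈ O) :
    ∃ W : S.affineOpens, k ∈ (I ⊓ J).subschemeι ⁻¹ᵁ W.1 ∧ (I ⊓ J).subschemeι ⁻¹ᵁ W.1 ≤ O := by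
  obtain ⟨U, hUo, hU⟩ := ((I ⊓ J).subschemeι).isEmbedding.isInducing.isOpen_iff.1 O.2
  obtain ⟨W, hW, hkW, hWU⟩ := exists_isAffineOpen_mem_and_subset (U := (⟨U, hUo⟩ : S.Opens))
    (show (I ⊓ J).subschemeι k ∈ U from hU.ge hk)
  exact ⟨⟨W, hW⟩, hkW, fun x hx => hU.le (hWU hx)⟩

theorem hom_ext_open (W₀ : S.Opens) (r r' : ((I ⊓ J).subschemeι ⁻¹ᵁ W₀).toScheme ⟶ T)
    (h1 : incl (inf_le_left : I ⊓ J ≤ I) W₀ ≫ r = incl (inf_le_left : I ⊓ J ≤ I) W₀ ≫ r')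
    (h2 : incl (inf_le_right : I ⊓ J ≤ J) W₀ ≫ r = incl (inf_le_right : I ⊓ J ≤ J) W₀ ≫ r') : r = r' := by
  have hpt : ∀ k, r k = r' k := fun k => by
    rcases exists_preimage I J (((I ⊓ J).subschemeι ⁻¹ᵁ W₀).ι k) with ⟨x, hx⟩ | ⟨x, hx⟩
    · have hxW : x ∈ I.subschemeι ⁻¹ᵁ W₀ := by
        rw [← preimage_eq (inf_le_left : I ⊓ J ≤ I)]
        show _ ∈ (I ⊓ J).subschemeι ⁻¹ᵁ W₀
        rw [hx]; exact k.2
      have : incl (inf_le_left : I ⊓ J ≤ I) W₀ ⟨x, hxW⟩ = k := by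
        apply ((I ⊓ J).subschemeι ⁻¹ᵁ W₀).ι.isEmbedding.injective
        rw [← Scheme.Hom.comp_apply, incl_ι]
        exact hx
      rw [← this, ← Scheme.Hom.comp_apply, ← Scheme.Hom.comp_apply, h1]
    · have hxW : x ∈ J.subschemeι ⁻¹ᵁ W₀ := by
        rw [← preimage_eq (inf_le_right : I ⊓ J ≤ J)]
        show _ ∈ (I ⊓ J).subschemeι ⁻¹ᵁ W₀
        rw [hx]; exact k.2
      have : incl (inf_le_right : I ⊓ J ≤ J) W₀ ⟨x, hxW⟩ = k := by
        apply ((I ⊓ J).subschemeι ⁻¹ᵁ W₀).ι.isEmbedding.injective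
        rw [← Scheme.Hom.comp_apply, incl_ι]
        exact hx
      rw [← this, ← Scheme.Hom.comp_apply, ← Scheme.Hom.comp_apply, h2]
  have loc : ∀ k, ∃ W : S.affineOpens, ∃ hW : ((I ⊓ J).subschemeι ⁻¹ᵁ W.1) ≤ (I ⊓ J).subschemeι ⁻¹ᵁ W₀, (((I ⊓ J).subschemeι ⁻¹ᵁ W₀).ι k) ∈ (I ⊓ J).subschemeι ⁻¹ᵁ W.1 ∧
      (I ⊓ J).subscheme.homOfLE hW ≫ r = (I ⊓ J).subscheme.homOfLE hW ≫ r' := by
    intro k
    obtain ⟨V, hV, hkV, -⟩ := exists_isAffineOpen_mem_and_subset (U := (⊤ : T.Opens)) (x := r k) trivial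
    obtain ⟨W, hkW, hWO⟩ := exists_good_nhd I J (O := ((I ⊓ J).subschemeι ⁻¹ᵁ W₀).ι ''ᵁ ((r ⁻¹ᵁ V) ⊓ (r' ⁻¹ᵁ V)))
      ⟨k, ⟨hkV, show r' k ∈ V from hpt k ▸ hkV⟩, rfl⟩
    have hW : ((I ⊓ J).subschemeι ⁻¹ᵁ W.1) ≤ (I ⊓ J).subschemeι ⁻¹ᵁ W₀ := hWO.trans (by
      rintro _ ⟨z, -, rfl⟩; exact z.2)
    refine ⟨W, hW, hkW, ?_⟩
    have hWW : W.1 ⊓ W₀ ≤ W₀ := inf_le_right
    haveI : IsAffine (V : Scheme) := hV
    have hr : ∀ g : ((I ⊓ J).subschemeι ⁻¹ᵁ W₀).toScheme ⟶ T, (r ⁻¹ᵁ V) ⊓ (r' ⁻¹ᵁ V) ≤ g ⁻¹ᵁ V →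
        Set.range ((I ⊓ J).subscheme.homOfLE hW ≫ g) ⊆ Set.range V.ι := by
      rintro g hg _ ⟨z, rfl⟩
      obtain ⟨w, hw, hwz⟩ := hWO z.2
      rw [Scheme.Opens.range_ι, Scheme.Hom.comp_apply]
      have : (I ⊓ J).subscheme.homOfLE hW z = w := ((I ⊓ J).subschemeι ⁻¹ᵁ W₀).ι.isEmbedding.injective (by
        rw [← Scheme.Hom.comp_apply, Scheme.homOfLE_ι]; exact hwz.symm)
      rw [this]
      exact hg hw
    rw [← IsOpenImmersion.lift_fac V.ι ((I ⊓ J).subscheme.homOfLE hW ≫ r) (hr r inf_le_left),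
      ← IsOpenImmersion.lift_fac V.ι ((I ⊓ J).subscheme.homOfLE hW ≫ r') (hr r' inf_le_right)]
    congr 1
    have hW' : ∀ H : S.IdealSheafData, ∀ h : I ⊓ J ≤ H, H.subschemeι ⁻¹ᵁ W.1 ≤ H.subschemeι ⁻¹ᵁ W₀ := fun H h => by
      rw [← preimage_eq h W.1, ← preimage_eq h W₀]
      exact fun x hx => hW hx
    have sq : ∀ (H : S.IdealSheafData) (h : I ⊓ J ≤ H),
        incl h W.1 ≫ (I ⊓ J).subscheme.homOfLE hW = H.subscheme.homOfLE (hW' H h) ≫ incl h W₀ := fun H h => by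
      rw [← cancel_mono ((I ⊓ J).subschemeι ⁻¹ᵁ W₀).ι, Category.assoc, Category.assoc, Scheme.homOfLE_ι, incl_ι,
        incl_ι, Scheme.homOfLE_ι_assoc]
    refine (affine_desc I J W V).2 _ _ ?_ ?_ <;>
      rw [← cancel_mono V.ι, Category.assoc, Category.assoc, IsOpenImmersion.lift_fac, IsOpenImmersion.lift_fac,
        ← Category.assoc, ← Category.assoc, sq, Category.assoc, Category.assoc]
    · rw [h1]
    · rw [h2]
  choose W hW hkW heq using loc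
  refine Scheme.Cover.hom_ext (((I ⊓ J).subschemeι ⁻¹ᵁ W₀).toScheme.openCoverOfIsOpenCover
    (fun k => ((I ⊓ J).subschemeι ⁻¹ᵁ W₀).ι ⁻¹ᵁ ((I ⊓ J).subschemeι ⁻¹ᵁ (W k).1))
    (IsOpenCover.mk (eq_top_iff.2 fun k _ => Opens.mem_iSup.2 ⟨k, hkW k⟩))) _ _ fun k => ?_
  let O := ((I ⊓ J).subschemeι ⁻¹ᵁ W₀).ι ⁻¹ᵁ ((I ⊓ J).subschemeι ⁻¹ᵁ (W k).1)
  have hfac : (((I ⊓ J).subschemeι ⁻¹ᵁ W₀).ι ∣_ ((I ⊓ J).subschemeι ⁻¹ᵁ (W k).1)) ≫ (I ⊓ J).subscheme.homOfLE (hW k) = O.ι := by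
    rw [← cancel_mono ((I ⊓ J).subschemeι ⁻¹ᵁ W₀).ι, Category.assoc, Scheme.homOfLE_ι, morphismRestrict_ι]
  change O.ι ≫ r = O.ι ≫ r'
  rw [← hfac, Category.assoc, Category.assoc, heq]

end Groth.Agent.ClosedUnion
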