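import Mathlib
import Groth.Agent.ClosedUnion.Basic
import Groth.Agent.ThickSys.Sheaf

set_option autoImplicit false
universe u
open CategoryTheory Limits AlgebraicGeometry TopologicalSpace

namespace Groth.Agent.ClosedUnion

variable {S T : Scheme.{u}} (I J : S.IdealSheafData)

theorem hom_ext (r r' : (I ⊓ J).subscheme ⟶ T)
    (h1 : Scheme.IdealSheafData.inclusion (inf_le_left : I ⊓ J ≤ I) ≫ r =
      Scheme.IdealSheafData.inclusion (inf_le_left : I ⊓ J ≤ I) ≫ r')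
    (h2 : Scheme.IdealSheafData.inclusion (inf_le_right : I ⊓ J ≤ J) ≫ r =
      Scheme.IdealSheafData.inclusion (inf_le_right : I ⊓ J ≤ J) ≫ r') : r = r' := by
  have h : ((I ⊓ J).subschemeι ⁻¹ᵁ ⊤).ι ≫ r = ((I ⊓ J).subschemeι ⁻¹ᵁ ⊤).ι ≫ r' := by
    refine hom_ext_open I J ⊤ _ _ ?_ ?_ <;> rw [← Category.assoc, ← Category.assoc, incl_ι, Category.assoc,
      Category.assoc]
    · rw [h1]
    · rw [h2]
  haveI : IsIso ((I ⊓ J).subschemeι ⁻¹ᵁ (⊤ : S.Opens)).ι := inferInstanceAs (IsIso (I ⊓ J).subscheme.topIso.hom)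
  exact (cancel_epi _).1 h

variable (p : I.subscheme ⟶ T) (q : J.subscheme ⟶ T)
  (h : Scheme.IdealSheafData.inclusion (le_sup_left : I ≤ I ⊔ J) ≫ p =
    Scheme.IdealSheafData.inclusion (le_sup_right : J ≤ I ⊔ J) ≫ q)

include h in
theorem exists_nhd (k : (I ⊓ J).subscheme) : ∃ W : S.affineOpens, k ∈ (I ⊓ J).subschemeι ⁻¹ᵁ W.1 ∧
    ∃ V : T.Opens, IsAffineOpen V ∧ I.subschemeι ⁻¹ᵁ W.1 ≤ p ⁻¹ᵁ V ∧ J.subschemeι ⁻¹ᵁ W.1 ≤ q ⁻¹ᵁ V := by
  let s := (I ⊓ J).subschemeι k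
  have compat : ∀ x y, I.subschemeι x = J.subschemeι y → p x = q y := by
    intro x y hxy
    have : I.subschemeι x ∈ (I ⊔ J).support := by
      rw [← SetLike.mem_coe, Scheme.IdealSheafData.support_sup]
      refine ⟨?_, ?_⟩
      · rw [← Scheme.IdealSheafData.range_subschemeι]; exact ⟨x, rfl⟩
      · rw [← Scheme.IdealSheafData.range_subschemeι]; exact ⟨y, hxy.symm⟩
    rw [← SetLike.mem_coe, ← Scheme.IdealSheafData.range_subschemeι] at this
    obtain ⟨d, hd⟩ := this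
    have e1 : Scheme.IdealSheafData.inclusion (le_sup_left : I ≤ I ⊔ J) d = x := I.subschemeι.isEmbedding.injective (by
      rw [← Scheme.Hom.comp_apply, Scheme.IdealSheafData.inclusion_subschemeι]; exact hd)
    have e2 : Scheme.IdealSheafData.inclusion (le_sup_right : J ≤ I ⊔ J) d = y := J.subschemeι.isEmbedding.injective (by
      rw [← Scheme.Hom.comp_apply, Scheme.IdealSheafData.inclusion_subschemeι]; exact hd.trans hxy)
    rw [← e1, ← e2, ← Scheme.Hom.comp_apply, ← Scheme.Hom.comp_apply, h]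
  obtain ⟨t, ht⟩ : ∃ t : T, (∀ x, I.subschemeι x = s → p x = t) ∧ (∀ y, J.subschemeι y = s → q y = t) := by
    rcases exists_preimage I J k with ⟨x, hx⟩ | ⟨y, hy⟩
    · have hx' : I.subschemeι x = s := by
        show _ = (I ⊓ J).subschemeι k
        rw [← hx, ← Scheme.Hom.comp_apply, Scheme.IdealSheafData.inclusion_subschemeι]
      exact ⟨p x, fun x' h' => congrArg p (I.subschemeι.isEmbedding.injective (h'.trans hx'.symm)),
        fun y h' => (compat x y (hx'.trans h'.symm)).symm⟩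
    · have hy' : J.subschemeι y = s := by
        show _ = (I ⊓ J).subschemeι k
        rw [← hy, ← Scheme.Hom.comp_apply, Scheme.IdealSheafData.inclusion_subschemeι]
      exact ⟨q y, fun x h' => compat x y (h'.trans hy'.symm),
        fun y' h' => congrArg q (J.subschemeι.isEmbedding.injective (h'.trans hy'.symm))⟩
  obtain ⟨V, hV, htV, -⟩ := exists_isAffineOpen_mem_and_subset (U := (⊤ : T.Opens)) (x := t) trivial
  let B : Set S := I.subschemeι '' (p ⁻¹ᵁ V : Set I.subscheme)ᶜ ∪ J.subschemeι '' (q ⁻¹ᵁ V : Set J.subscheme)ᶜ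
  have hB : IsClosed B := (I.subschemeι.isClosedMap _ (p ⁻¹ᵁ V).2.isClosed_compl).union
    (J.subschemeι.isClosedMap _ (q ⁻¹ᵁ V).2.isClosed_compl)
  obtain ⟨W, hW, hsW, hWB⟩ := exists_isAffineOpen_mem_and_subset (U := (⟨Bᶜ, hB.isOpen_compl⟩ : S.Opens)) (x := s)
    (by
      rintro (⟨x, hx, hxs⟩ | ⟨y, hy, hys⟩)
      · exact hx (show p x ∈ V by rw [ht.1 x hxs]; exact htV)
      · exact hy (show q y ∈ V by rw [ht.2 y hys]; exact htV))
  exact ⟨⟨W, hW⟩, hsW, V, hV, fun x hx => by_contra fun hn => hWB hx (Or.inl ⟨x, hn, rfl⟩),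
    fun y hy => by_contra fun hn => hWB hy (Or.inr ⟨y, hn, rfl⟩)⟩

theorem incl_homOfLE {H : S.IdealSheafData} (hH : I ⊓ J ≤ H) {W W₀ : S.Opens} (hW : W ≤ W₀) :
    incl hH W ≫ (I ⊓ J).subscheme.homOfLE ((I ⊓ J).subschemeι.preimage_mono hW) =
      H.subscheme.homOfLE (H.subschemeι.preimage_mono hW) ≫ incl hH W₀ := by
  rw [← cancel_mono ((I ⊓ J).subschemeι ⁻¹ᵁ W₀).ι, Category.assoc, Category.assoc, Scheme.homOfLE_ι, incl_ι,
    incl_ι, Scheme.homOfLE_ι_assoc]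

include h in
theorem exists_local (W : S.affineOpens) {V : T.Opens} (hV : IsAffineOpen V)
    (hp : I.subschemeι ⁻¹ᵁ W.1 ≤ p ⁻¹ᵁ V) (hq : J.subschemeι ⁻¹ᵁ W.1 ≤ q ⁻¹ᵁ V) :
    ∃ r : ((I ⊓ J).subschemeι ⁻¹ᵁ W.1).toScheme ⟶ T,
      incl (inf_le_left : I ⊓ J ≤ I) W.1 ≫ r = (I.subschemeι ⁻¹ᵁ W.1).ι ≫ p ∧
      incl (inf_le_right : I ⊓ J ≤ J) W.1 ≫ r = (J.subschemeι ⁻¹ᵁ W.1).ι ≫ q := by
  haveI : IsAffine (V : Scheme) := hV
  obtain ⟨r, h1, h2⟩ := (affine_desc I J W (V : Scheme)).1 (p.resLE V _ hp) (q.resLE V _ hq) (by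
    rw [← cancel_mono V.ι, Category.assoc, Category.assoc, Scheme.Hom.resLE_comp_ι, Scheme.Hom.resLE_comp_ι,
      ← Category.assoc, ← Category.assoc, incl_ι, incl_ι, Category.assoc, Category.assoc, h])
  exact ⟨r ≫ V.ι, by rw [← Category.assoc, h1, Scheme.Hom.resLE_comp_ι],
    by rw [← Category.assoc, h2, Scheme.Hom.resLE_comp_ι]⟩

include h in
theorem exists_desc : ∃ r : (I ⊓ J).subscheme ⟶ T,
    Scheme.IdealSheafData.inclusion (inf_le_left : I ⊓ J ≤ I) ≫ r = p ∧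
    Scheme.IdealSheafData.inclusion (inf_le_right : I ⊓ J ≤ J) ≫ r = q := by
  choose W hkW V hV hp hq using exists_nhd I J p q h
  choose r hr1 hr2 using fun k => exists_local I J p q h (W k) (hV k) (hp k) (hq k)
  let 𝒰 := (I ⊓ J).subscheme.openCoverOfIsOpenCover (fun k => (I ⊓ J).subschemeι ⁻¹ᵁ (W k).1)
    (IsOpenCover.mk (eq_top_iff.2 fun k _ => Opens.mem_iSup.2 ⟨k, hkW k⟩))
  have agree : ∀ x y, (I ⊓ J).subscheme.homOfLE ((I ⊓ J).subschemeι.preimage_mono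
        (inf_le_left : (W x).1 ⊓ (W y).1 ≤ (W x).1)) ≫ r x =
      (I ⊓ J).subscheme.homOfLE ((I ⊓ J).subschemeι.preimage_mono
        (inf_le_right : (W x).1 ⊓ (W y).1 ≤ (W y).1)) ≫ r y := by
    intro x y
    refine hom_ext_open I J _ _ _ ?_ ?_
    · rw [← Category.assoc, ← Category.assoc, incl_homOfLE, incl_homOfLE, Category.assoc, Category.assoc,
        hr1, hr1, Scheme.homOfLE_ι_assoc, Scheme.homOfLE_ι_assoc]
      all_goals first | exact inf_le_left | exact inf_le_right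
    · rw [← Category.assoc, ← Category.assoc, incl_homOfLE, incl_homOfLE, Category.assoc, Category.assoc,
        hr2, hr2, Scheme.homOfLE_ι_assoc, Scheme.homOfLE_ι_assoc]
      all_goals first | exact inf_le_left | exact inf_le_right
  have compat : ∀ x y, pullback.fst (𝒰.f x) (𝒰.f y) ≫ r x = pullback.snd (𝒰.f x) (𝒰.f y) ≫ r y := by
    intro x y
    let O := (I ⊓ J).subschemeι ⁻¹ᵁ ((W x).1 ⊓ (W y).1)
    have hrange : Set.range (pullback.fst (𝒰.f x) (𝒰.f y) ≫ 𝒰.f x) ⊆ Set.range O.ι := by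
      rintro _ ⟨z, rfl⟩
      rw [Scheme.Opens.range_ι]
      refine ⟨(pullback.fst (𝒰.f x) (𝒰.f y) z).2, ?_⟩
      rw [pullback.condition]
      exact (pullback.snd (𝒰.f x) (𝒰.f y) z).2
    let l := IsOpenImmersion.lift O.ι (pullback.fst (𝒰.f x) (𝒰.f y) ≫ 𝒰.f x) hrange
    have hl : l ≫ O.ι = pullback.fst (𝒰.f x) (𝒰.f y) ≫ 𝒰.f x := IsOpenImmersion.lift_fac _ _ _
    have e1 : l ≫ (I ⊓ J).subscheme.homOfLE ((I ⊓ J).subschemeι.preimage_mono
        (inf_le_left : (W x).1 ⊓ (W y).1 ≤ (W x).1)) = pullback.fst (𝒰.f x) (𝒰.f y) := by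
      refine (cancel_mono ((I ⊓ J).subschemeι ⁻¹ᵁ (W x).1).ι).1 ?_
      rw [Category.assoc]
      exact (congrArg (l ≫ ·) (Scheme.homOfLE_ι _ _)).trans hl
    have e2 : l ≫ (I ⊓ J).subscheme.homOfLE ((I ⊓ J).subschemeι.preimage_mono
        (inf_le_right : (W x).1 ⊓ (W y).1 ≤ (W y).1)) = pullback.snd (𝒰.f x) (𝒰.f y) := by
      refine (cancel_mono ((I ⊓ J).subschemeι ⁻¹ᵁ (W y).1).ι).1 ?_
      rw [Category.assoc]
      exact ((congrArg (l ≫ ·) (Scheme.homOfLE_ι _ _)).trans hl).trans pullback.condition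
    rw [← e1, ← e2]
    exact (Category.assoc _ _ _).trans ((congrArg (l ≫ ·) (agree x y)).trans (Category.assoc _ _ _).symm)
  refine ⟨𝒰.glueMorphisms r compat, ?_, ?_⟩
  · refine Scheme.Cover.hom_ext (I.subscheme.openCoverOfIsOpenCover (fun k => I.subschemeι ⁻¹ᵁ (W k).1)
      (IsOpenCover.mk (eq_top_iff.2 fun x _ => Opens.mem_iSup.2
        ⟨Scheme.IdealSheafData.inclusion (inf_le_left : I ⊓ J ≤ I) x, by
          rw [← preimage_eq (inf_le_left : I ⊓ J ≤ I)]; exact hkW _⟩))) _ _ fun k => ?_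
    change (I.subschemeι ⁻¹ᵁ (W k).1).ι ≫ _ = (I.subschemeι ⁻¹ᵁ (W k).1).ι ≫ p
    rw [← Category.assoc, ← incl_ι, Category.assoc, ← hr1]
    exact congrArg (incl _ _ ≫ ·) (Scheme.Cover.ι_glueMorphisms 𝒰 r compat k)
  · refine Scheme.Cover.hom_ext (J.subscheme.openCoverOfIsOpenCover (fun k => J.subschemeι ⁻¹ᵁ (W k).1)
      (IsOpenCover.mk (eq_top_iff.2 fun x _ => Opens.mem_iSup.2
        ⟨Scheme.IdealSheafData.inclusion (inf_le_right : I ⊓ J ≤ J) x, by
          rw [← preimage_eq (inf_le_right : I ⊓ J ≤ J)]; exact hkW _⟩))) _ _ fun k => ?_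
    change (J.subschemeι ⁻¹ᵁ (W k).1).ι ≫ _ = (J.subschemeι ⁻¹ᵁ (W k).1).ι ≫ q
    rw [← Category.assoc, ← incl_ι, Category.assoc, ← hr2]
    exact congrArg (incl _ _ ≫ ·) (Scheme.Cover.ι_glueMorphisms 𝒰 r compat k)

theorem isPushout : IsPushout (Scheme.IdealSheafData.inclusion (le_sup_left : I ≤ I ⊔ J))
    (Scheme.IdealSheafData.inclusion (le_sup_right : J ≤ I ⊔ J))
    (Scheme.IdealSheafData.inclusion (inf_le_left : I ⊓ J ≤ I))
    (Scheme.IdealSheafData.inclusion (inf_le_right : I ⊓ J ≤ J)) := by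
  have w : Scheme.IdealSheafData.inclusion (le_sup_left : I ≤ I ⊔ J) ≫
      Scheme.IdealSheafData.inclusion (inf_le_left : I ⊓ J ≤ I) =
      Scheme.IdealSheafData.inclusion (le_sup_right : J ≤ I ⊔ J) ≫
      Scheme.IdealSheafData.inclusion (inf_le_right : I ⊓ J ≤ J) := by
    rw [Scheme.IdealSheafData.inclusion_comp, Scheme.IdealSheafData.inclusion_comp]
  refine ⟨⟨w⟩, ⟨PushoutCocone.IsColimit.mk w (fun s => (exists_desc I J s.inl s.inr s.condition).choose)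
    (fun s => (exists_desc I J s.inl s.inr s.condition).choose_spec.1)
    (fun s => (exists_desc I J s.inl s.inr s.condition).choose_spec.2) fun s m h1 h2 => ?_⟩⟩
  exact hom_ext I J _ _ (h1.trans (exists_desc I J s.inl s.inr s.condition).choose_spec.1.symm)
    (h2.trans (exists_desc I J s.inl s.inr s.condition).choose_spec.2.symm)

theorem ker_inclusion_eq : (Scheme.IdealSheafData.inclusion (le_sup_left : I ≤ I ⊔ J)).ker =
    J.comap I.subschemeι := by
  haveI : IsClosedImmersion (Scheme.IdealSheafData.inclusion (le_sup_left : I ≤ I ⊔ J) ≫ I.subschemeι) := by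
    rw [Scheme.IdealSheafData.inclusion_subschemeι]; infer_instance
  haveI : IsClosedImmersion (Scheme.IdealSheafData.inclusion (le_sup_left : I ≤ I ⊔ J)) :=
    IsClosedImmersion.of_comp _ I.subschemeι
  rw [ThickSys.ker_eq_comap_ker_comp (Scheme.IdealSheafData.inclusion (le_sup_left : I ≤ I ⊔ J)) I.subschemeι,
    Scheme.IdealSheafData.inclusion_subschemeι, Scheme.IdealSheafData.ker_subschemeι,
    Scheme.IdealSheafData.comap_sup, show I.comap I.subschemeι = ⊥ by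
      conv_lhs => arg 1; rw [← I.ker_subschemeι]
      exact ThickSys.comap_ker_self _, bot_sup_eq]

end Groth.Agent.ClosedUnion
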